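import Mathlib

/-!
# Lubin–Tate lemma: uniqueness part, and tools for composites of power series
-/

universe u

namespace Groth.Agent.Helper9.LT

open MvPowerSeries Finsupp

variable {σ τ υ : Type*} {O : Type u} [CommRing O]

/-- If `a s = X s * u s` and `D` vanishes in degrees `< n`, then the degree-`n` coefficients of
`D(a)` are those of `D` scaled by the constant coefficients of the `u s`. -/
theorem coeff_subst_of_order (a u : σ → MvPowerSeries σ O) (hau : ∀ s, a s = X s * u s)
    (ha : HasSubst a) (D : MvPowerSeries σ O) (n : ℕ)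
    (hD : ∀ d : σ →₀ ℕ, degree d < n → coeff d D = 0) (e : σ →₀ ℕ) (he : degree e = n) :
    coeff e (subst a D) = coeff e D * e.prod (fun s k => constantCoeff (u s) ^ k) := by
  classical
  have hprod : ∀ d : σ →₀ ℕ, (d.prod fun s k => (a s) ^ k) =
      monomial d (1 : O) * d.prod (fun s k => (u s) ^ k) := by
    intro d
    rw [monomial_one_eq, ← Finsupp.prod_mul]
    apply Finsupp.prod_congr
    intro s _
    rw [hau, mul_pow]
  rw [coeff_subst ha, finsum_eq_single _ e]
  · rw [hprod, coeff_monomial_mul, if_pos le_rfl, one_mul, tsub_self, smul_eq_mul,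
      coeff_zero_eq_constantCoeff_apply, map_finsuppProd]
    congr 1
    apply Finsupp.prod_congr
    intro s _
    rw [map_pow]
  · intro d hd
    by_cases hdn : degree d < n
    · rw [hD d hdn, zero_smul]
    · rw [hprod, coeff_monomial_mul, if_neg, smul_zero]
      intro hle
      apply hd
      have h1 : degree d ≤ degree e := Finsupp.degree_mono hle
      have h2 : degree d = degree e := le_antisymm h1 (by omega)
      have h3 : degree (e - d) = 0 := by
        have := map_add (Finsupp.degree (σ := σ) (R := ℕ)) d (e - d)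
        rw [add_tsub_cancel_of_le hle] at this
        omega
      have h4 : e - d = 0 := (Finsupp.degree_eq_zero_iff _).mp h3
      have := add_tsub_cancel_of_le hle
      rw [h4, add_zero] at this
      exact this


/-- the vector `(π X_s + X_s^q)_s` -/
noncomputable def gv (π : O) (q : ℕ) : σ → MvPowerSeries σ O := fun s => π • X s + X s ^ q

theorem constantCoeff_gv (π : O) {q : ℕ} (hq : q ≠ 0) (s : σ) :
    constantCoeff (gv (σ := σ) π q s) = 0 := by
  simp [gv, hq]

theorem hasSubst_gv [Finite σ] (π : O) {q : ℕ} (hq : q ≠ 0) : HasSubst (gv (σ := σ) π q) :=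
  hasSubst_of_constantCoeff_zero (constantCoeff_gv π hq)

theorem gv_eq (π : O) {q : ℕ} (hq : q ≠ 0) (s : σ) :
    gv (σ := σ) π q s = X s * (C π + X s ^ (q - 1)) := by
  obtain ⟨r, rfl⟩ := Nat.exists_eq_succ_of_ne_zero hq
  rw [gv, Nat.succ_sub_one, mul_add, pow_succ', smul_eq_C_mul, mul_comm (X s) (C π)]

/-- the Lubin–Tate functional equation `f(Φ) = Φ(f(X_1), …, f(X_n))` for `f = πT + T^q`. -/
def LTEq (π : O) (q : ℕ) (Φ : MvPowerSeries σ O) : Prop :=
  π • Φ + Φ ^ q = subst (gv π q) Φ

theorem coeff_subst_gv [Finite σ] (π : O) {q : ℕ} (hq : 2 ≤ q) (D : MvPowerSeries σ O) (n : ℕ)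
    (hD : ∀ d : σ →₀ ℕ, degree d < n → coeff d D = 0) (e : σ →₀ ℕ) (he : degree e = n) :
    coeff e (subst (gv π q) D) = π ^ n * coeff e D := by
  have hq0 : q ≠ 0 := by omega
  rw [coeff_subst_of_order (gv π q) (fun s => C π + X s ^ (q - 1)) (gv_eq π hq0)
    (hasSubst_gv π hq0) D n hD e he, mul_comm]
  congr 1
  have : ∀ s : σ, constantCoeff (C π + X s ^ (q - 1) : MvPowerSeries σ O) = π := by
    intro s
    have : q - 1 ≠ 0 := by omega
    simp [this]
  simp only [this]
  rw [Finsupp.prod, Finset.prod_pow_eq_pow_sum, ← he, Finsupp.degree_apply]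

theorem coeff_pow_sub_pow_eq_zero {q : ℕ} (hq : 2 ≤ q) (Φ Ψ : MvPowerSeries σ O)
    (hΦ0 : constantCoeff Φ = 0) (hΨ0 : constantCoeff Ψ = 0) (n : ℕ)
    (hD : ∀ d : σ →₀ ℕ, degree d < n → coeff d (Φ - Ψ) = 0) (e : σ →₀ ℕ) (he : degree e = n) :
    coeff e (Φ ^ q - Ψ ^ q) = 0 := by
  have hfac : Φ ^ q - Ψ ^ q = (Φ - Ψ) * ∑ i ∈ Finset.range q, Φ ^ i * Ψ ^ (q - 1 - i) := by
    rw [mul_comm]; exact ((Commute.all Φ Ψ).geom_sum₂_mul q).symm
  rw [hfac]
  apply coeff_of_lt_order
  have h1 : (n : ℕ∞) ≤ (Φ - Ψ).order := nat_le_order hD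
  have h2 : (1 : ℕ∞) ≤ (∑ i ∈ Finset.range q, Φ ^ i * Ψ ^ (q - 1 - i)).order := by
    rw [one_le_order_iff_constCoeff_eq_zero, map_sum]
    apply Finset.sum_eq_zero
    intro i hi
    rw [Finset.mem_range] at hi
    rw [map_mul, map_pow, map_pow, hΦ0, hΨ0]
    rcases Nat.eq_zero_or_pos i with rfl | hi0
    · have : q - 1 - 0 ≠ 0 := by omega
      rw [zero_pow this, mul_zero]
    · rw [zero_pow (by omega), zero_mul]
  calc ((degree e : ℕ) : ℕ∞) = n := by rw [he]
    _ < n + 1 := by
        exact_mod_cast Nat.lt_succ_self n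
    _ ≤ (Φ - Ψ).order + (∑ i ∈ Finset.range q, Φ ^ i * Ψ ^ (q - 1 - i)).order := add_le_add h1 h2
    _ ≤ _ := le_order_mul

theorem LT_unique [Finite σ] [IsDomain O] (π : O) (hπ0 : π ≠ 0) (hπu : ¬ IsUnit π) {q : ℕ}
    (hq : 2 ≤ q) (Φ Ψ : MvPowerSeries σ O) (hΦ0 : constantCoeff Φ = 0) (hΨ0 : constantCoeff Ψ = 0)
    (hΦ : LTEq π q Φ) (hΨ : LTEq π q Ψ)
    (hlin : ∀ s, coeff (single s 1) Φ = coeff (single s 1) Ψ) : Φ = Ψ := by
  have hq0 : q ≠ 0 := by omega
  have key : ∀ n : ℕ, ∀ d : σ →₀ ℕ, degree d < n → coeff d (Φ - Ψ) = 0 := by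
    intro n
    induction n with
    | zero => intro d hd; omega
    | succ n ih =>
      intro e he
      rcases Nat.lt_succ_iff_lt_or_eq.mp he with h | h
      · exact ih e h
      · rcases Nat.lt_or_ge n 2 with hn2 | hn2
        · interval_cases n
          · have : e = 0 := (Finsupp.degree_eq_zero_iff e).mp h
            rw [this, coeff_zero_eq_constantCoeff_apply, map_sub, hΦ0, hΨ0, sub_zero]
          · have : e ∈ Set.range (fun a : σ ↦ Finsupp.single a 1) := by
              rw [Finsupp.range_single_one]; exact h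
            obtain ⟨s, rfl⟩ := this
            rw [map_sub, hlin s, sub_self]
        · have hsub : π • (Φ - Ψ) + (Φ ^ q - Ψ ^ q) = subst (gv π q) (Φ - Ψ) := by
            rw [subst_sub (hasSubst_gv π hq0), ← hΦ, ← hΨ, smul_sub]
            ring
          have hc := congrArg (coeff e) hsub
          rw [map_add, coeff_pow_sub_pow_eq_zero hq Φ Ψ hΦ0 hΨ0 n ih e h, add_zero,
            coeff_subst_gv π hq (Φ - Ψ) n ih e h, map_smul, smul_eq_mul] at hc
          obtain ⟨m, rfl⟩ : ∃ m, n = m + 1 := ⟨n - 1, by omega⟩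
          have hc' : π * ((1 - π ^ m) * coeff e (Φ - Ψ)) = 0 := by
            rw [pow_succ'] at hc
            linear_combination hc
          rcases mul_eq_zero.mp hc' with h1 | h1
          · exact absurd h1 hπ0
          · rcases mul_eq_zero.mp h1 with h2 | h2
            · exfalso
              apply hπu
              have hm : m ≠ 0 := by omega
              have : π ^ m = 1 := by linear_combination -h2
              exact IsUnit.of_pow_eq_one this hm
            · exact h2
  have : Φ - Ψ = 0 := by
    ext d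
    rw [key (degree d + 1) d (Nat.lt_succ_self _), map_zero]
  exact sub_eq_zero.mp this


/-- order of a monomial product of series without constant term -/
theorem degree_le_order_prod (a : σ → MvPowerSeries τ O) (ha0 : ∀ s, constantCoeff (a s) = 0)
    (d : σ →₀ ℕ) : ((degree d : ℕ) : ℕ∞) ≤ (d.prod fun s k => (a s) ^ k).order := by
  rw [Finsupp.prod, Finsupp.degree_apply, Nat.cast_sum]
  refine le_trans ?_ (le_order_prod _ _)
  apply Finset.sum_le_sum
  intro s _
  exact le_order_pow_of_constantCoeff_eq_zero (d s) (ha0 s)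

/-- chain rule at the origin: the linear coefficients of a composite -/
theorem coeff_single_subst [Fintype σ] (a : σ → MvPowerSeries τ O)
    (ha0 : ∀ s, constantCoeff (a s) = 0) (f : MvPowerSeries σ O) (hf0 : constantCoeff f = 0)
    (t : τ) :
    coeff (single t 1) (subst a f) = ∑ s, coeff (single s 1) f * coeff (single t 1) (a s) := by
  classical
  have ha : HasSubst a := hasSubst_of_constantCoeff_zero ha0
  rw [coeff_subst ha, finsum_eq_sum_of_support_subset (s := Finset.univ.image (fun s : σ => single s 1))]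
  · rw [Finset.sum_image]
    · apply Finset.sum_congr rfl
      intro s _
      rw [Finsupp.prod_single_index (by simp), pow_one, smul_eq_mul]
    · intro s _ s' _ h
      exact Finsupp.single_left_injective one_ne_zero h
  · intro d hd
    rw [Function.mem_support] at hd
    rw [Finset.coe_image, Finset.coe_univ, Set.image_univ, Finsupp.range_single_one]
    by_contra hdeg
    apply hd
    rcases Nat.lt_or_ge (degree d) 1 with h0 | h1
    · have : d = 0 := (Finsupp.degree_eq_zero_iff d).mp (by omega)
      rw [this, coeff_zero_eq_constantCoeff_apply, hf0, zero_smul]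
    · have h2 : 2 ≤ degree d := by
        rcases Nat.lt_or_ge (degree d) 2 with h | h
        · exfalso; apply hdeg; show degree d = 1; omega
        · exact h
      have hz : coeff (single t 1) (d.prod fun s k => (a s) ^ k) = 0 := by
        apply coeff_of_lt_order
        refine lt_of_lt_of_le ?_ (degree_le_order_prod a ha0 d)
        rw [Finsupp.degree_single]
        exact_mod_cast h2
      rw [hz, smul_zero]


section conv

variable (π : O) (q : ℕ) (f : PowerSeries O)

/-- `f(Φ) = πΦ + Φ^q` -/
theorem subst_f (hf : f = π • PowerSeries.X + PowerSeries.X ^ q)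
    (Φ : MvPowerSeries τ O) (hΦ0 : constantCoeff Φ = 0) :
    PowerSeries.subst Φ f = π • Φ + Φ ^ q := by
  have h : PowerSeries.HasSubst Φ := PowerSeries.HasSubst.of_constantCoeff_zero hΦ0
  rw [hf, PowerSeries.subst_add h, PowerSeries.subst_smul h, PowerSeries.subst_pow h,
    PowerSeries.subst_X h]

theorem subst_X_f (hf : f = π • PowerSeries.X + PowerSeries.X ^ q) :
    (fun i : σ => PowerSeries.subst (X i : MvPowerSeries σ O) f) = gv π q := by
  funext i
  rw [subst_f π q f hf (X i) (by simp), gv]

theorem LTEq_iff (hf : f = π • PowerSeries.X + PowerSeries.X ^ q)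
    (Φ : MvPowerSeries σ O) (hΦ0 : constantCoeff Φ = 0) :
    (PowerSeries.subst Φ f =
      subst (fun i : σ => PowerSeries.subst (X i : MvPowerSeries σ O) f) Φ) ↔ LTEq π q Φ := by
  rw [subst_f π q f hf Φ hΦ0, subst_X_f π q f hf, LTEq]

end conv

section assoc

/-- `(h ∘ F)[a] = h ∘ (F[a])` -/
theorem subst_powerSeries_subst (a : σ → MvPowerSeries τ O) (ha : HasSubst a)
    (F : MvPowerSeries σ O) (hF : PowerSeries.HasSubst F) (h : PowerSeries O) :
    subst a (PowerSeries.subst F h) = PowerSeries.subst (subst a F) h := by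
  rw [PowerSeries.subst_def, PowerSeries.subst_def]
  exact subst_comp_subst_apply (a := fun _ : Unit => F) (PowerSeries.hasSubst_iff.mp hF) ha h

end assoc


end Groth.Agent.Helper9.LT
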