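import Mathlib
import Groth.Agent.Lib.Helper9.LT.Basic

/-!
# Lubin–Tate lemma: existence part
-/

universe u

namespace Groth.Agent.Helper9.LT

open MvPowerSeries Finsupp


open MvPowerSeries Finsupp

section frob

variable {σ : Type*} [Finite σ] {k : Type u} [CommRing k]

/-- Frobenius: `Φ(X^q) = Φ(X)^q` over a ring of characteristic `p` fixed by the `q`-power map. -/
theorem subst_X_pow_eq_pow (p f : ℕ) [hp : Fact p.Prime] [CharP k p] (q : ℕ) (hq : q = p ^ f)
    (hq0 : q ≠ 0) (hk : ∀ c : k, c ^ q = c) (Φ : MvPowerSeries σ k) :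
    subst (fun s : σ => (X s : MvPowerSeries σ k) ^ q) Φ = Φ ^ q := by
  classical
  haveI : CharP (MvPowerSeries σ k) p :=
    charP_of_injective_ringHom (f := (C : k →+* MvPowerSeries σ k)) C_injective p
  have ha0 : ∀ s : σ, constantCoeff ((X s : MvPowerSeries σ k) ^ q) = 0 := by
    intro s; simp [hq0]
  have ha : HasSubst (fun s : σ => (X s : MvPowerSeries σ k) ^ q) :=
    hasSubst_of_constantCoeff_zero ha0
  -- polynomial case
  have hpoly : ∀ P : MvPolynomial σ k,
      subst (fun s : σ => (X s : MvPowerSeries σ k) ^ q) (P : MvPowerSeries σ k) =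
        (P : MvPowerSeries σ k) ^ q := by
    intro P
    rw [subst_coe]
    have h := MvPolynomial.ringHom_ext
      (f := (MvPolynomial.aeval (fun s : σ => (X s : MvPowerSeries σ k) ^ q)).toRingHom)
      (g := (iterateFrobenius (MvPowerSeries σ k) p f).comp
        (MvPolynomial.coeToMvPowerSeries.ringHom (R := k) (σ := σ)))
      (by
        intro c
        simp only [AlgHom.toRingHom_eq_coe, RingHom.coe_coe, MvPolynomial.aeval_C,
          RingHom.comp_apply, MvPolynomial.coeToMvPowerSeries.ringHom_apply, MvPolynomial.coe_C,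
          iterateFrobenius_def, ← hq, ← map_pow, hk]
        rfl)
      (by
        intro s
        simp only [AlgHom.toRingHom_eq_coe, RingHom.coe_coe, MvPolynomial.aeval_X,
          RingHom.comp_apply, MvPolynomial.coeToMvPowerSeries.ringHom_apply, MvPolynomial.coe_X,
          iterateFrobenius_def, ← hq])
    have := congrArg (fun φ => φ P) h
    simpa [iterateFrobenius_def, ← hq] using this
  ext e
  set N := degree e + 1 with hN
  set P := truncTotal N Φ with hP
  have hR : ∀ d : σ →₀ ℕ, degree d < degree e + 1 → coeff d (Φ - (P : MvPowerSeries σ k)) = 0 := by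
    intro d hd
    rw [map_sub, MvPolynomial.coeff_coe, hP, coeff_truncTotal _ hd, sub_self]
  have h1 : coeff e (subst (fun s : σ => (X s : MvPowerSeries σ k) ^ q) Φ) =
      coeff e (subst (fun s : σ => (X s : MvPowerSeries σ k) ^ q) (P : MvPowerSeries σ k)) := by
    have hsplit : Φ = (P : MvPowerSeries σ k) + (Φ - P) := by ring
    conv_lhs => rw [hsplit, subst_add ha, map_add]
    have hau : ∀ s : σ, (X s : MvPowerSeries σ k) ^ q = X s * X s ^ (q - 1) := by
      intro s
      rw [← pow_succ', Nat.sub_add_cancel (Nat.one_le_iff_ne_zero.mpr hq0)]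
    rw [coeff_subst_of_order _ (fun s => X s ^ (q - 1)) hau ha (Φ - P) (degree e)
      (fun d hd => hR d (by omega)) e rfl, hR e (by omega), zero_mul, add_zero]
  have h2 : coeff e (Φ ^ q) = coeff e ((P : MvPowerSeries σ k) ^ q) := by
    rw [← MvPolynomial.coe_pow, MvPolynomial.coeff_coe, hP, coeff_truncTotal_pow _ (by omega)]
  rw [h1, h2, hpoly]




variable {O : Type u} [CommRing O]

/-- Frobenius congruence: `Φ(πX + X^q) ≡ Φ(X)^q mod π`. -/
theorem dvd_coeff_subst_gv_sub_pow (π : O) (I : Ideal O) (hI : I = Ideal.span {π}) (p f : ℕ)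
    [hp : Fact p.Prime] [CharP (O ⧸ I) p] (q : ℕ) (hq : q = p ^ f) (hq0 : q ≠ 0)
    (hk : ∀ c : O ⧸ I, c ^ q = c) (Φ : MvPowerSeries σ O) (e : σ →₀ ℕ) :
    π ∣ coeff e (subst (gv π q) Φ - Φ ^ q) := by
  subst hI
  rw [← Ideal.mem_span_singleton, ← Ideal.Quotient.eq_zero_iff_mem, ← coeff_map]
  have hmapg : (fun s : σ => (gv π q s).map (Ideal.Quotient.mk (Ideal.span {π}))) =
      fun s : σ => (X s : MvPowerSeries σ (O ⧸ Ideal.span {π})) ^ q := by
    funext s
    rw [gv, smul_eq_C_mul, map_add, map_mul, map_pow, map_C, map_X]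
    have : (Ideal.Quotient.mk (Ideal.span {π})) π = 0 :=
      Ideal.Quotient.eq_zero_iff_mem.mpr (Ideal.mem_span_singleton_self π)
    rw [this, map_zero, zero_mul, zero_add]
  rw [map_sub, map_subst (hasSubst_gv π hq0), map_pow, hmapg,
    subst_X_pow_eq_pow p f q hq hq0 hk, sub_self, map_zero]

end frob




open MvPowerSeries Finsupp

section exist

variable {σ : Type*} [Finite σ] {O : Type u} [CommRing O]

/-- the defect of the Lubin–Tate functional equation -/
noncomputable def defect (π : O) (q : ℕ) (Φ : MvPowerSeries σ O) : MvPowerSeries σ O :=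
  subst (gv π q) Φ - π • Φ - Φ ^ q

theorem LTEq_of_defect_eq_zero (π : O) (q : ℕ) (Φ : MvPowerSeries σ O)
    (h : defect π q Φ = 0) : LTEq π q Φ := by
  unfold defect at h
  unfold LTEq
  have := sub_eq_zero.mp h
  rw [sub_eq_iff_eq_add] at this
  rw [this, add_comm]

/-- the defect vanishes in degrees `≤ 1`. -/
theorem coeff_defect_low (π : O) {q : ℕ} (hq : 2 ≤ q) (Ψ : MvPowerSeries σ O)
    (hΨ0 : constantCoeff Ψ = 0) (e : σ →₀ ℕ) (he : degree e ≤ 1) : coeff e (defect π q Ψ) = 0 := by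
  have hq0 : q ≠ 0 := by omega
  have hD : ∀ d : σ →₀ ℕ, degree d < degree e → coeff d Ψ = 0 := by
    intro d hd
    have : d = 0 := (Finsupp.degree_eq_zero_iff d).mp (by omega)
    rw [this, coeff_zero_eq_constantCoeff_apply, hΨ0]
  have h1 := coeff_subst_gv π hq Ψ (degree e) hD e rfl
  have h2 : coeff e (Ψ ^ q) = 0 := by
    apply coeff_of_lt_order
    have : (q : ℕ∞) ≤ (Ψ ^ q).order := le_order_pow_of_constantCoeff_eq_zero q hΨ0
    refine lt_of_lt_of_le ?_ this
    exact_mod_cast (by omega : degree e < q)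
  unfold defect
  rw [map_sub, map_sub, h1, h2, map_smul, smul_eq_mul, sub_zero]
  rcases Nat.lt_or_ge (degree e) 1 with h0 | h0
  · have : e = 0 := (Finsupp.degree_eq_zero_iff e).mp (by omega)
    rw [this, coeff_zero_eq_constantCoeff_apply, hΨ0, mul_zero, mul_zero, sub_self]
  · have : degree e = 1 := by omega
    rw [this, pow_one, sub_self]

variable (π : O) (q : ℕ)
  (hdvd : ∀ (Φ : MvPowerSeries σ O) (e : σ →₀ ℕ), π ∣ coeff e (subst (gv π q) Φ - Φ ^ q))

omit [Finite σ] in
include hdvd in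
theorem dvd_coeff_defect (Φ : MvPowerSeries σ O) (e : σ →₀ ℕ) : π ∣ coeff e (defect π q Φ) := by
  have : defect π q Φ = (subst (gv π q) Φ - Φ ^ q) - π • Φ := by unfold defect; ring
  rw [this, map_sub, map_smul, smul_eq_mul]
  exact dvd_sub (hdvd Φ e) (dvd_mul_right π _)

/-- the quotient `defect / π`, coefficientwise -/
noncomputable def quo (Φ : MvPowerSeries σ O) (e : σ →₀ ℕ) : O :=
  Classical.choose (dvd_coeff_defect π q hdvd Φ e)

theorem quo_spec (Φ : MvPowerSeries σ O) (e : σ →₀ ℕ) :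
    coeff e (defect π q Φ) = π * quo π q hdvd Φ e :=
  Classical.choose_spec (dvd_coeff_defect π q hdvd Φ e)

variable (v : ℕ → O)

/-- the homogeneous correction term of degree `n + 1` -/
noncomputable def corr (n : ℕ) (Ψ : MvPowerSeries σ O) : MvPowerSeries σ O :=
  fun e => if degree e = n + 1 then v n * quo π q hdvd Ψ e else 0

theorem coeff_corr (n : ℕ) (Ψ : MvPowerSeries σ O) (e : σ →₀ ℕ) :
    coeff e (corr π q hdvd v n Ψ) = if degree e = n + 1 then v n * quo π q hdvd Ψ e else 0 := rfl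

theorem step_spec (hq : 2 ≤ q) (hv : ∀ n, 1 ≤ n → v n * (1 - π ^ n) = 1) (n : ℕ) (hn : 1 ≤ n)
    (Ψ : MvPowerSeries σ O) (hΨ0 : constantCoeff Ψ = 0)
    (hE : ∀ e : σ →₀ ℕ, degree e ≤ n → coeff e (defect π q Ψ) = 0) :
    constantCoeff (Ψ + corr π q hdvd v n Ψ) = 0 ∧
    ∀ e : σ →₀ ℕ, degree e ≤ n + 1 → coeff e (defect π q (Ψ + corr π q hdvd v n Ψ)) = 0 := by
  have hq0 : q ≠ 0 := by omega
  set Q := corr π q hdvd v n Ψ with hQ
  have hQ0 : constantCoeff Q = 0 := by
    rw [← coeff_zero_eq_constantCoeff_apply, hQ, coeff_corr, if_neg]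
    rw [map_zero]; omega
  have hΨ'0 : constantCoeff (Ψ + Q) = 0 := by rw [map_add, hΨ0, hQ0, add_zero]
  refine ⟨hΨ'0, ?_⟩
  intro e he
  have hDQ : ∀ d : σ →₀ ℕ, degree d < degree e → coeff d Q = 0 := by
    intro d hd
    rw [hQ, coeff_corr, if_neg]
    omega
  have h1 := coeff_subst_gv π hq Q (degree e) hDQ e rfl
  have h2 : coeff e ((Ψ + Q) ^ q - Ψ ^ q) = 0 :=
    coeff_pow_sub_pow_eq_zero hq (Ψ + Q) Ψ hΨ'0 hΨ0 (degree e)
      (fun d hd => by rw [add_sub_cancel_left]; exact hDQ d hd) e rfl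
  have hsplit : defect π q (Ψ + Q) =
      defect π q Ψ + subst (gv π q) Q - π • Q - ((Ψ + Q) ^ q - Ψ ^ q) := by
    unfold defect
    rw [subst_add (hasSubst_gv π hq0), smul_add]
    ring
  rw [hsplit, map_sub, map_sub, map_add, h1, h2, map_smul, smul_eq_mul, sub_zero]
  rcases Nat.lt_or_ge (degree e) (n + 1) with hlt | hge
  · have hQe : coeff e Q = 0 := by
      rw [hQ, coeff_corr, if_neg]; omega
    rw [hQe, hE e (by omega), mul_zero, mul_zero, add_zero, sub_zero]
  · have hdeg : degree e = n + 1 := by omega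
    have hQe : coeff e Q = v n * quo π q hdvd Ψ e := by
      rw [hQ, coeff_corr, if_pos hdeg]
    rw [hQe, quo_spec π q hdvd Ψ e, hdeg]
    have := hv n hn
    linear_combination (-(π * quo π q hdvd Ψ e)) * this

theorem coeff_corr_of_ne (n : ℕ) (Ψ : MvPowerSeries σ O) (e : σ →₀ ℕ) (h : degree e ≠ n + 1) :
    coeff e (corr π q hdvd v n Ψ) = 0 := by
  rw [coeff_corr, if_neg h]

/-- successive approximations -/
noncomputable def seq (L : MvPowerSeries σ O) : ℕ → MvPowerSeries σ O
  | 0 => L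
  | (m + 1) => seq L m + corr π q hdvd v (m + 1) (seq L m)

theorem seq_spec (hq : 2 ≤ q) (hv : ∀ n, 1 ≤ n → v n * (1 - π ^ n) = 1)
    (L : MvPowerSeries σ O) (hL0 : constantCoeff L = 0) (m : ℕ) :
    constantCoeff (seq π q hdvd v L m) = 0 ∧
    ∀ e : σ →₀ ℕ, degree e ≤ m + 1 → coeff e (defect π q (seq π q hdvd v L m)) = 0 := by
  induction m with
  | zero => exact ⟨hL0, fun e he => coeff_defect_low π hq L hL0 e he⟩
  | succ m ih => exact step_spec π q hdvd v hq hv (m + 1) (by omega) _ ih.1 ih.2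

theorem coeff_seq_succ (L : MvPowerSeries σ O) (m : ℕ) (e : σ →₀ ℕ) (h : degree e ≠ m + 2) :
    coeff e (seq π q hdvd v L (m + 1)) = coeff e (seq π q hdvd v L m) := by
  show coeff e (seq π q hdvd v L m + corr π q hdvd v (m + 1) (seq π q hdvd v L m)) = _
  rw [map_add, coeff_corr_of_ne π q hdvd v (m + 1) _ e h, add_zero]

theorem coeff_seq_stable (L : MvPowerSeries σ O) (m k : ℕ) (e : σ →₀ ℕ) (h : degree e ≤ m) :
    coeff e (seq π q hdvd v L (m + k)) = coeff e (seq π q hdvd v L m) := by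
  induction k with
  | zero => rfl
  | succ k ih =>
    rw [← add_assoc, coeff_seq_succ π q hdvd v L (m + k) e (by omega), ih]

/-- the limit of the successive approximations -/
noncomputable def lim (L : MvPowerSeries σ O) : MvPowerSeries σ O :=
  fun e => coeff e (seq π q hdvd v L (degree e))

theorem coeff_lim_eq_seq (L : MvPowerSeries σ O) (m : ℕ) (e : σ →₀ ℕ) (h : degree e ≤ m) :
    coeff e (lim π q hdvd v L) = coeff e (seq π q hdvd v L m) := by
  obtain ⟨k, rfl⟩ := Nat.exists_eq_add_of_le h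
  rw [coeff_seq_stable π q hdvd v L (degree e) k e le_rfl]
  rfl

theorem constantCoeff_lim (L : MvPowerSeries σ O) (hL0 : constantCoeff L = 0) :
    constantCoeff (lim π q hdvd v L) = 0 := by
  rw [← coeff_zero_eq_constantCoeff_apply, coeff_lim_eq_seq π q hdvd v L 0 0 (by simp)]
  exact hL0

theorem coeff_single_lim (L : MvPowerSeries σ O) (s : σ) :
    coeff (single s 1) (lim π q hdvd v L) = coeff (single s 1) L := by
  rw [coeff_lim_eq_seq π q hdvd v L 1 _ (by simp),
    coeff_seq_succ π q hdvd v L 0 _ (by simp)]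
  rfl

theorem defect_lim (hq : 2 ≤ q) (hv : ∀ n, 1 ≤ n → v n * (1 - π ^ n) = 1)
    (L : MvPowerSeries σ O) (hL0 : constantCoeff L = 0) :
    defect π q (lim π q hdvd v L) = 0 := by
  have hq0 : q ≠ 0 := by omega
  ext e
  rw [map_zero]
  set m := degree e with hm
  set Ψ := seq π q hdvd v L m with hΨ
  set Φ := lim π q hdvd v L with hΦ
  obtain ⟨hΨ0, hΨE⟩ := seq_spec π q hdvd v hq hv L hL0 m
  have hΦ0 : constantCoeff Φ = 0 := constantCoeff_lim π q hdvd v L hL0
  have hΔ : ∀ d : σ →₀ ℕ, degree d ≤ m → coeff d (Φ - Ψ) = 0 := by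
    intro d hd
    rw [map_sub, hΦ, coeff_lim_eq_seq π q hdvd v L m d hd, sub_self]
  have h1 := coeff_subst_gv π hq (Φ - Ψ) m (fun d hd => hΔ d (by omega)) e hm.symm
  have h2 : coeff e (Φ ^ q - Ψ ^ q) = 0 :=
    coeff_pow_sub_pow_eq_zero hq Φ Ψ hΦ0 hΨ0 m (fun d hd => hΔ d (by omega)) e hm.symm
  have hsplit : defect π q Φ =
      defect π q Ψ + subst (gv π q) (Φ - Ψ) - π • (Φ - Ψ) - (Φ ^ q - Ψ ^ q) := by
    unfold defect
    rw [subst_sub (hasSubst_gv π hq0), smul_sub]
    ring
  rw [hsplit, map_sub, map_sub, map_add, h1, h2, map_smul, smul_eq_mul, hΔ e le_rfl,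
    hΨE e (by omega)]
  ring

include hdvd in
theorem exists_LT (hq : 2 ≤ q) (hv : ∀ n, 1 ≤ n → v n * (1 - π ^ n) = 1)
    (L : MvPowerSeries σ O) (hL0 : constantCoeff L = 0) :
    ∃ Φ : MvPowerSeries σ O, constantCoeff Φ = 0 ∧
      (∀ s, coeff (single s 1) Φ = coeff (single s 1) L) ∧ LTEq π q Φ :=
  ⟨lim π q hdvd v L, constantCoeff_lim π q hdvd v L hL0, coeff_single_lim π q hdvd v L,
    LTEq_of_defect_eq_zero π q _ (defect_lim π q hdvd v hq hv L hL0)⟩

end exist


section dvr

open IsLocalRing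

/-- the Lubin–Tate lemma (existence) over a DVR with finite residue field -/
theorem exists_LT_dvr (O : Type u) [CommRing O] [IsDomain O] [IsDiscreteValuationRing O]
    [Finite (ResidueField O)] (π : O) (hπ : Irreducible π) {σ : Type*} [Finite σ]
    (L : MvPowerSeries σ O) (hL0 : constantCoeff L = 0) :
    ∃ Φ : MvPowerSeries σ O, constantCoeff Φ = 0 ∧
      (∀ s, coeff (single s 1) Φ = coeff (single s 1) L) ∧
      LTEq π (Nat.card (ResidueField O)) Φ := by
  classical
  haveI : Fintype (ResidueField O) := Fintype.ofFinite _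
  set q := Nat.card (ResidueField O) with hq
  have hqc : q = Fintype.card (ResidueField O) := Nat.card_eq_fintype_card
  have hq2 : 2 ≤ q := by
    have := Finite.one_lt_card (α := ResidueField O)
    omega
  set p := ringChar (ResidueField O) with hp
  haveI : CharP (ResidueField O) p := ringChar.charP _
  obtain ⟨f, hpp, hf⟩ := FiniteField.card (ResidueField O) p
  haveI : Fact p.Prime := ⟨hpp⟩
  haveI : CharP (O ⧸ maximalIdeal O) p := inferInstanceAs (CharP (ResidueField O) p)
  have hk : ∀ c : O ⧸ maximalIdeal O, c ^ q = c := by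
    intro c
    rw [hqc]
    exact FiniteField.pow_card (K := ResidueField O) c
  have hdvd : ∀ (Φ : MvPowerSeries σ O) (e : σ →₀ ℕ), π ∣ coeff e (subst (gv π q) Φ - Φ ^ q) :=
    dvd_coeff_subst_gv_sub_pow π (maximalIdeal O) hπ.maximalIdeal_eq p f q (hqc.trans hf)
      (by omega) hk
  have hunit : ∀ n : ℕ, 1 ≤ n → IsUnit (1 - π ^ n) := by
    intro n hn
    apply isUnit_one_sub_self_of_mem_nonunits
    have : π ^ n ∈ maximalIdeal O :=
      Ideal.pow_mem_of_mem _ ((mem_maximalIdeal π).mpr hπ.not_isUnit) n (by omega)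
    exact (mem_maximalIdeal _).mp this
  let v : ℕ → O := fun n => if h : IsUnit (1 - π ^ n) then ((h.unit⁻¹ : Oˣ) : O) else 0
  have hv : ∀ n, 1 ≤ n → v n * (1 - π ^ n) = 1 := by
    intro n hn
    simp only [v, dif_pos (hunit n hn)]
    exact IsUnit.val_inv_mul (hunit n hn)
  exact exists_LT π q hdvd v hq2 hv L hL0

end dvr

end Groth.Agent.Helper9.LT
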