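import Mathlib
import Groth.Agent.Lib.Helper9.LT.Basic

/-!
# Linearisation of a substitution `X ↦ X·u` with `u(0) = c` not a root of unity (logarithms)
-/

universe u

namespace Groth.Agent.Helper9.LT

open MvPowerSeries Finsupp

section log

variable {σ : Type*} {K : Type u} [Field K] (c : K) (a u : σ → MvPowerSeries σ K)

theorem coeff_subst_c (hau : ∀ s, a s = X s * u s) (hu : ∀ s, constantCoeff (u s) = c)
    (ha : HasSubst a) (D : MvPowerSeries σ K) (n : ℕ)
    (hD : ∀ d : σ →₀ ℕ, degree d < n → coeff d D = 0) (e : σ →₀ ℕ) (he : degree e = n) :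
    coeff e (subst a D) = c ^ n * coeff e D := by
  rw [coeff_subst_of_order a u hau ha D n hD e he, mul_comm]
  congr 1
  simp only [hu]
  rw [Finsupp.prod, Finset.prod_pow_eq_pow_sum, ← he, Finsupp.degree_apply]

theorem log_unique (hau : ∀ s, a s = X s * u s) (hu : ∀ s, constantCoeff (u s) = c)
    (ha : HasSubst a) (hc0 : c ≠ 0) (hc : ∀ m, 1 ≤ m → c ^ m ≠ 1)
    (Λ : MvPowerSeries σ K) (hΛ0 : constantCoeff Λ = 0)
    (hlin : ∀ s, coeff (single s 1) Λ = 0) (hE : subst a Λ = c • Λ) : Λ = 0 := by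
  have key : ∀ n : ℕ, ∀ d : σ →₀ ℕ, degree d < n → coeff d Λ = 0 := by
    intro n
    induction n with
    | zero => intro d hd; omega
    | succ n ih =>
      intro e he
      rcases Nat.lt_succ_iff_lt_or_eq.mp he with h | h
      · exact ih e h
      · rcases Nat.lt_or_ge n 2 with hn2 | hn2
        · interval_cases n
          · have : e = 0 := (Finsupp.degree_eq_zero_iff e).mp h
            rw [this, coeff_zero_eq_constantCoeff_apply, hΛ0]
          · have : e ∈ Set.range (fun a : σ ↦ Finsupp.single a 1) := by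
              rw [Finsupp.range_single_one]; exact h
            obtain ⟨s, rfl⟩ := this
            exact hlin s
        · have h1 := coeff_subst_c c a u hau hu ha Λ n ih e h
          rw [hE, map_smul, smul_eq_mul] at h1
          obtain ⟨m, rfl⟩ : ∃ m, n = m + 1 := ⟨n - 1, by omega⟩
          have h2 : c * ((1 - c ^ m) * coeff e Λ) = 0 := by
            rw [pow_succ'] at h1
            linear_combination h1
          rcases mul_eq_zero.mp h2 with h3 | h3
          · exact absurd h3 hc0
          · rcases mul_eq_zero.mp h3 with h4 | h4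
            · exfalso
              apply hc m (by omega)
              linear_combination -h4
            · exact h4
  ext d
  rw [key (degree d + 1) d (Nat.lt_succ_self _), map_zero]

/-- the defect of the linearisation equation -/
noncomputable def ldefect (Ψ : MvPowerSeries σ K) : MvPowerSeries σ K := subst a Ψ - c • Ψ

/-- the correction term in degree `n + 1` -/
noncomputable def lcorr (n : ℕ) (Ψ : MvPowerSeries σ K) : MvPowerSeries σ K :=
  fun e => if degree e = n + 1 then (c ^ (n + 1) - c)⁻¹ * coeff e (ldefect c a Ψ) else 0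

theorem coeff_lcorr (n : ℕ) (Ψ : MvPowerSeries σ K) (e : σ →₀ ℕ) :
    coeff e (lcorr c a n Ψ) =
      if degree e = n + 1 then (c ^ (n + 1) - c)⁻¹ * coeff e (ldefect c a Ψ) else 0 := rfl

theorem coeff_ldefect_low (hau : ∀ s, a s = X s * u s) (hu : ∀ s, constantCoeff (u s) = c)
    (ha : HasSubst a) (Ψ : MvPowerSeries σ K) (hΨ0 : constantCoeff Ψ = 0) (e : σ →₀ ℕ)
    (he : degree e ≤ 1) : coeff e (ldefect c a Ψ) = 0 := by
  have hD : ∀ d : σ →₀ ℕ, degree d < degree e → coeff d Ψ = 0 := by
    intro d hd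
    have : d = 0 := (Finsupp.degree_eq_zero_iff d).mp (by omega)
    rw [this, coeff_zero_eq_constantCoeff_apply, hΨ0]
  have h1 := coeff_subst_c c a u hau hu ha Ψ (degree e) hD e rfl
  unfold ldefect
  rw [map_sub, h1, map_smul, smul_eq_mul]
  rcases Nat.lt_or_ge (degree e) 1 with h0 | h0
  · have : e = 0 := (Finsupp.degree_eq_zero_iff e).mp (by omega)
    rw [this, coeff_zero_eq_constantCoeff_apply, hΨ0, mul_zero, mul_zero, sub_self]
  · have : degree e = 1 := by omega
    rw [this, pow_one, sub_self]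

theorem lstep_spec (hau : ∀ s, a s = X s * u s) (hu : ∀ s, constantCoeff (u s) = c)
    (ha : HasSubst a) (hc0 : c ≠ 0) (hc : ∀ m, 1 ≤ m → c ^ m ≠ 1) (n : ℕ) (hn : 1 ≤ n)
    (Ψ : MvPowerSeries σ K) (hΨ0 : constantCoeff Ψ = 0)
    (hE : ∀ e : σ →₀ ℕ, degree e ≤ n → coeff e (ldefect c a Ψ) = 0) :
    constantCoeff (Ψ - lcorr c a n Ψ) = 0 ∧
    ∀ e : σ →₀ ℕ, degree e ≤ n + 1 → coeff e (ldefect c a (Ψ - lcorr c a n Ψ)) = 0 := by
  set Q := lcorr c a n Ψ with hQ
  have hQ0 : constantCoeff Q = 0 := by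
    rw [← coeff_zero_eq_constantCoeff_apply, hQ, coeff_lcorr, if_neg]
    rw [map_zero]; omega
  refine ⟨by rw [map_sub, hΨ0, hQ0, sub_zero], ?_⟩
  intro e he
  have hDQ : ∀ d : σ →₀ ℕ, degree d < degree e → coeff d Q = 0 := by
    intro d hd
    rw [hQ, coeff_lcorr, if_neg]
    omega
  have h1 := coeff_subst_c c a u hau hu ha Q (degree e) hDQ e rfl
  have hsplit : ldefect c a (Ψ - Q) = ldefect c a Ψ - subst a Q + c • Q := by
    unfold ldefect
    rw [subst_sub ha, smul_sub]
    ring
  rw [hsplit, map_add, map_sub, h1, map_smul, smul_eq_mul]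
  rcases Nat.lt_or_ge (degree e) (n + 1) with hlt | hge
  · have hQe : coeff e Q = 0 := by
      rw [hQ, coeff_lcorr, if_neg]; omega
    rw [hQe, hE e (by omega), mul_zero, mul_zero, sub_zero, add_zero]
  · have hdeg : degree e = n + 1 := by omega
    have hQe : coeff e Q = (c ^ (n + 1) - c)⁻¹ * coeff e (ldefect c a Ψ) := by
      rw [hQ, coeff_lcorr, if_pos hdeg]
    have hne : c ^ (n + 1) - c ≠ 0 := by
      intro h
      have h' : c * (1 - c ^ n) = 0 := by rw [pow_succ'] at h; linear_combination -h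
      rcases mul_eq_zero.mp h' with h3 | h3
      · exact hc0 h3
      · apply hc n hn
        linear_combination -h3
    rw [hQe, hdeg]
    have hinv : (c ^ (n + 1) - c) * (c ^ (n + 1) - c)⁻¹ = 1 := mul_inv_cancel₀ hne
    linear_combination (-(coeff e (ldefect c a Ψ))) * hinv

/-- successive approximations -/
noncomputable def lseq (L : MvPowerSeries σ K) : ℕ → MvPowerSeries σ K
  | 0 => L
  | (m + 1) => lseq L m - lcorr c a (m + 1) (lseq L m)

theorem lseq_spec (hau : ∀ s, a s = X s * u s) (hu : ∀ s, constantCoeff (u s) = c)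
    (ha : HasSubst a) (hc0 : c ≠ 0) (hc : ∀ m, 1 ≤ m → c ^ m ≠ 1)
    (L : MvPowerSeries σ K) (hL0 : constantCoeff L = 0) (m : ℕ) :
    constantCoeff (lseq c a L m) = 0 ∧
    ∀ e : σ →₀ ℕ, degree e ≤ m + 1 → coeff e (ldefect c a (lseq c a L m)) = 0 := by
  induction m with
  | zero => exact ⟨hL0, fun e he => coeff_ldefect_low c a u hau hu ha L hL0 e he⟩
  | succ m ih => exact lstep_spec c a u hau hu ha hc0 hc (m + 1) (by omega) _ ih.1 ih.2

theorem coeff_lseq_succ (L : MvPowerSeries σ K) (m : ℕ) (e : σ →₀ ℕ) (h : degree e ≠ m + 2) :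
    coeff e (lseq c a L (m + 1)) = coeff e (lseq c a L m) := by
  show coeff e (lseq c a L m - lcorr c a (m + 1) (lseq c a L m)) = _
  rw [map_sub, coeff_lcorr, if_neg h, sub_zero]

theorem coeff_lseq_stable (L : MvPowerSeries σ K) (m k : ℕ) (e : σ →₀ ℕ) (h : degree e ≤ m) :
    coeff e (lseq c a L (m + k)) = coeff e (lseq c a L m) := by
  induction k with
  | zero => rfl
  | succ k ih =>
    rw [← add_assoc, coeff_lseq_succ c a L (m + k) e (by omega), ih]

/-- the limit -/
noncomputable def llim (L : MvPowerSeries σ K) : MvPowerSeries σ K :=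
  fun e => coeff e (lseq c a L (degree e))

theorem coeff_llim_eq_lseq (L : MvPowerSeries σ K) (m : ℕ) (e : σ →₀ ℕ) (h : degree e ≤ m) :
    coeff e (llim c a L) = coeff e (lseq c a L m) := by
  obtain ⟨k, rfl⟩ := Nat.exists_eq_add_of_le h
  rw [coeff_lseq_stable c a L (degree e) k e le_rfl]
  rfl

theorem log_exists (hau : ∀ s, a s = X s * u s) (hu : ∀ s, constantCoeff (u s) = c)
    (ha : HasSubst a) (hc0 : c ≠ 0) (hc : ∀ m, 1 ≤ m → c ^ m ≠ 1)
    (L : MvPowerSeries σ K) (hL0 : constantCoeff L = 0) :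
    ∃ Λ : MvPowerSeries σ K, constantCoeff Λ = 0 ∧
      (∀ s, coeff (single s 1) Λ = coeff (single s 1) L) ∧ subst a Λ = c • Λ := by
  refine ⟨llim c a L, ?_, ?_, ?_⟩
  · rw [← coeff_zero_eq_constantCoeff_apply, coeff_llim_eq_lseq c a L 0 0 (by simp)]
    exact hL0
  · intro s
    rw [coeff_llim_eq_lseq c a L 1 _ (by simp), coeff_lseq_succ c a L 0 _ (by simp)]
    rfl
  · have hd : ldefect c a (llim c a L) = 0 := by
      ext e
      rw [map_zero]
      set m := degree e with hm
      obtain ⟨hΨ0, hΨE⟩ := lseq_spec c a u hau hu ha hc0 hc L hL0 m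
      have hΔ : ∀ d : σ →₀ ℕ, degree d ≤ m → coeff d (llim c a L - lseq c a L m) = 0 := by
        intro d hd
        rw [map_sub, coeff_llim_eq_lseq c a L m d hd, sub_self]
      have h1 := coeff_subst_c c a u hau hu ha (llim c a L - lseq c a L m) m
        (fun d hd => hΔ d (by omega)) e hm.symm
      have hsplit : ldefect c a (llim c a L) = ldefect c a (lseq c a L m) +
          subst a (llim c a L - lseq c a L m) - c • (llim c a L - lseq c a L m) := by
        unfold ldefect
        rw [subst_sub ha, smul_sub]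
        ring
      rw [hsplit, map_sub, map_add, h1, map_smul, smul_eq_mul, hΔ e le_rfl, hΨE e (by omega)]
      ring
    unfold ldefect at hd
    exact sub_eq_zero.mp hd

end log

end Groth.Agent.Helper9.LT
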